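import Groth.Agent.Lib.CartanImg21.Points
import Groth.Agent.Lib.CentMT21.Cartan
import Groth.Agent.Lib.CartanDim21.Main
import Groth.Agent.Lib.OpenOrbit19.Identity
import Groth.Agent.Lib.OverProd19.Basic
import Groth.Agent.Lib.AlgGrpBasic19.Basic
import Groth.Agent.Lib.BorelFix21.Stabilizer
import Groth.Agent.Lib.AttrBorel21.BorelFacts
import Groth.Agent.Lib.H12.FlatComp
import Groth.Agent.Lib.SchBasic.Basic

/-!
# Images of Cartan subgroups
-/

set_option autoImplicit false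
set_option linter.style.haveILetI false
set_option linter.unusedSectionVars false
set_option backward.isDefEq.respectTransparency.types false
set_option maxSynthPendingDepth 3

universe u

open CategoryTheory Limits MonoidalCategory CartesianMonoidalCategory MonObj AlgebraicGeometry

noncomputable section

namespace Groth.Agent.CartanImg21

open DiagGL CartanT21 MTRigid29

section Comm

variable {S : Scheme.{u}}

theorem epi_whiskerRight {A B : Over S} (q : A ⟶ B) (Z : Over S) [Flat q.left] [Surjective q.left]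
    [QuasiCompact q.left] : Epi (q ▷ Z) := by
  have sq := ((OverProd19.isPullback_whiskerRight q Z).map (Over.forget S)).flip
  haveI : Flat (q ▷ Z).left := MorphismProperty.of_isPullback (P := @Flat) sq.flip ‹_›
  haveI : Surjective (q ▷ Z).left := MorphismProperty.of_isPullback (P := @Surjective) sq.flip ‹_›
  haveI : QuasiCompact (q ▷ Z).left := MorphismProperty.of_isPullback (P := @QuasiCompact) sq.flip ‹_›
  exact AlgGrpBasic19.epi_of_cover _

theorem epi_whiskerLeft {A B : Over S} (q : A ⟶ B) (Z : Over S) [Flat q.left] [Surjective q.left]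
    [QuasiCompact q.left] : Epi (Z ◁ q) := by
  have sq := ((OverProd19.isPullback_whiskerLeft q Z).map (Over.forget S)).flip
  haveI : Flat (Z ◁ q).left := MorphismProperty.of_isPullback (P := @Flat) sq.flip ‹_›
  haveI : Surjective (Z ◁ q).left := MorphismProperty.of_isPullback (P := @Surjective) sq.flip ‹_›
  haveI : QuasiCompact (Z ◁ q).left := MorphismProperty.of_isPullback (P := @QuasiCompact) sq.flip ‹_›
  exact AlgGrpBasic19.epi_of_cover _

variable {G H T C T' C' : Over S} [GrpObj G] [GrpObj H] [GrpObj T] [GrpObj C] [GrpObj T'] [GrpObj C']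

/-- The image of the centralizer centralizes the image. -/
theorem commute_images (v : G ⟶ H) [IsMonHom v] {i : T ⟶ G} {c : C ⟶ G} (hC : Red.IsCentralizerOf i c)
    (t' : T' ⟶ H) (wT : T ⟶ T') [Flat wT.left] [Surjective wT.left] [QuasiCompact wT.left]
    (hwT : wT ≫ t' = i ≫ v) (c' : C' ⟶ H) (wC : C ⟶ C') [Flat wC.left] [Surjective wC.left]
    [QuasiCompact wC.left] (hwC : wC ≫ c' = c ≫ v) {X : Over S} (z : X ⟶ C') (h : X ⟶ T') :
    (z ≫ c') * (h ≫ t') = (h ≫ t') * (z ≫ c') := by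
  haveI := epi_whiskerRight wC T'
  haveI := epi_whiskerLeft wT C
  have hU : (fst C' T' ≫ c') * (snd C' T' ≫ t') = (snd C' T' ≫ t') * (fst C' T' ≫ c') := by
    rw [← cancel_epi (wC ▷ T'), ← cancel_epi (C ◁ wT)]
    simp only [MonObj.comp_mul, whiskerRight_fst_assoc, whiskerRight_snd_assoc, whiskerLeft_fst_assoc,
      whiskerLeft_snd_assoc, hwC, hwT]
    simp only [← Category.assoc, ← MonObj.mul_comp]
    congr 1
    have h := (hC.2.2 (C ⊗ T) (fst C T ≫ c)).1 ⟨fst C T, rfl⟩ _ (𝟙 _) (snd C T)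
    simpa only [Category.id_comp] using h
  have h' := congrArg (lift z h ≫ ·) hU
  simpa only [MonObj.comp_mul, lift_fst_assoc, lift_snd_assoc] using h'

/-- The centralizer only depends on the subgroup up to isomorphism. -/
theorem isCentralizerOf_of_iso {t' : T' ⟶ H} {t : T ⟶ H} {c' : C' ⟶ H} (e : T ≅ T') (he : e.hom ≫ t' = t)
    (h : Red.IsCentralizerOf t c') : Red.IsCentralizerOf t' c' :=
  ⟨h.1, h.2.1, fun X g => (h.2.2 X g).trans
    ⟨fun hg X' x a => by simpa [← he] using hg X' x (a ≫ e.inv),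
     fun hg X' x a => by simpa [← he] using hg X' x (a ≫ e.hom)⟩⟩

end Comm

variable {k : Type u} [Field k] [IsAlgClosed k] {G H T C T' C' : Over (Spec (CommRingCat.of k))}
  [GrpObj G] [GrpObj H] [GrpObj T] [GrpObj C] [GrpObj T'] [GrpObj C']

/-- The centralizer of a torus is smooth. -/
theorem smooth_of_isCentralizerOf [Smooth G.hom] [IsSeparated G.hom] {i : T ⟶ G} [IsMonHom i]
    (hT : Red.IsTorus T) {c : C ⟶ G} (hC : Red.IsCentralizerOf i c) : Smooth C.hom := by
  haveI := hC.2.1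
  obtain ⟨C₁, _, c₁, hC₁, -, hs⟩ := TorusCentr19.exists_centralizer'
    (isMT_of_ft (TorPts21.isMultTypeFT_of_isTorus hT)) inferInstance i
  haveI := hC₁.2.1
  obtain ⟨a, ha⟩ := (hC₁.2.2 C c).2 ((hC.2.2 C c).1 ⟨𝟙 C, Category.id_comp c⟩)
  obtain ⟨b, hb⟩ := (hC.2.2 C₁ c₁).2 ((hC₁.2.2 C₁ c₁).1 ⟨𝟙 C₁, Category.id_comp c₁⟩)
  let e : C ≅ C₁ := ⟨a, b, (cancel_mono c).1 (by rw [Category.assoc, hb, ha, Category.id_comp]),
    (cancel_mono c₁).1 (by rw [Category.assoc, ha, hb, Category.id_comp])⟩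
  haveI := hs
  rw [← Over.w e.hom]
  haveI : IsIso e.hom := Iso.isIso_hom e
  haveI : IsIso e.hom.left := inferInstanceAs (IsIso ((Over.forget _).map e.hom))
  infer_instance

set_option maxHeartbeats 1000000 in
/-- The centralizer of a maximal torus maps onto the centralizer of its image. -/
theorem surjective_centralizers [Smooth G.hom] [QuasiCompact G.hom] [Smooth H.hom] [QuasiCompact H.hom]
    [ConnectedSpace ↥H.left] (v : G ⟶ H) [IsMonHom v] [Surjective v.left] {i : T ⟶ G}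
    (hT : Red.IsMaximalTorus i) {c : C ⟶ G} (hC : Red.IsCentralizerOf i c) {t' : T' ⟶ H}
    (hT' : Red.IsMaximalTorus t') (wT : T ⟶ T') [Surjective wT.left] (hwT : wT ≫ t' = i ≫ v)
    {D : Over (Spec (CommRingCat.of k))} [GrpObj D] {jD : D ⟶ H} (hD : Red.IsCentralizerOf t' jD)
    [LocallyOfFiniteType D.hom] (fC : C ⟶ D) (hfC : fC ≫ jD = c ≫ v) :
    IsMonHom fC ∧ Surjective fC.left := by
  classical
  haveI := hT.1
  haveI := hT.2.1
  haveI := hT'.1
  haveI := hT'.2.1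
  haveI := hC.1
  haveI := hC.2.1
  haveI := hD.1
  haveI := hD.2.1
  haveI : IsMonHom fC := BorelFix21.isMonHom_of_comp jD fC (by rw [hfC]; infer_instance)
  refine ⟨inferInstance, ?_⟩
  haveI : IsSeparated G.hom := AbRigid.isSeparated_of_grpObj G
  haveI : IsSeparated H.hom := AbRigid.isSeparated_of_grpObj H
  haveI : IsSeparated D.hom := AbRigid.isSeparated_of_grpObj D
  obtain ⟨-, hTs, -, -⟩ := TorPts21.props_of_isTorus hT.2.2.1
  obtain ⟨hT'a, hT's, -, -⟩ := TorPts21.props_of_isTorus hT'.2.2.1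
  haveI := hTs
  haveI := hT'a
  haveI := hT's
  haveI : IsReduced T.left := OrbitTop19.isReduced_of_smooth T.hom
  haveI : IsClosedImmersion t'.left := AttrBorel21.isClosedImmersion_torus_gen hT'.2.2.1 t'
  haveI : IsClosedImmersion i.left := AttrBorel21.isClosedImmersion_torus_gen hT.2.2.1 i
  haveI : IsClosedImmersion c.left := CartanDim21.isClosedImmersion_of_isCentralizerOf hT.2.2.1 hC
  haveI : QuasiCompact C.hom := by rw [← Over.w c]; infer_instance
  haveI : LocallyOfFiniteType C.hom := by rw [← Over.w c]; infer_instance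
  haveI : QuasiCompact fC.left := CentMT21.quasiCompact_left fC
  haveI : ConnectedSpace ↥D.left := AttrBorel21.connectedSpace_centralizer_gen hT'.2.2.1 hD
  -- the preimage of the image torus
  obtain ⟨_, hp, hq⟩ := CentMT21.exists_grp_pullback t' v
  let P := Limits.pullback t' v
  let p : P ⟶ T' := Limits.pullback.fst t' v
  let q : P ⟶ G := Limits.pullback.snd t' v
  haveI : IsMonHom p := hp
  haveI : IsMonHom q := hq
  haveI : Mono q := inferInstanceAs (Mono (Limits.pullback.snd t' v))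
  haveI : IsClosedImmersion q.left :=
    MorphismProperty.of_isPullback (P := @IsClosedImmersion)
      ((IsPullback.of_hasPullback t' v).map (Over.forget _)) ‹_›
  haveI : LocallyOfFiniteType P.hom := by rw [← Over.w q]; infer_instance
  haveI : QuasiCompact P.hom := by rw [← Over.w q]; infer_instance
  obtain ⟨M, _, r, hrm, hrc, hrs, hMr, hMs⟩ := BorelFix21.exists_reduced_subgroup P
  haveI := hrm
  haveI := hrc
  haveI := hrs
  haveI := hMs
  haveI : Mono r := Over.mono_of_mono_left r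
  haveI : QuasiCompact M.hom := by rw [← Over.w r]; infer_instance
  -- the normalizer
  obtain ⟨N, _, jN, hN, hNc, hNs⟩ :=
    TorusCentr19.exists_normalizer' (TorPts21.isMultTypeFT_of_isTorus hT.2.2.1) inferInstance i
  haveI := hNc
  haveI := hN.1
  haveI := hN.2.1
  haveI : QuasiCompact N.hom := by rw [← Over.w jN]; infer_instance
  obtain ⟨fN, hfN⟩ := (hN.2.2 C c).2 fun X x h => by
    have e := (hC.2.2 C c).1 ⟨𝟙 C, Category.id_comp c⟩ X x h
    exact ⟨⟨h, by rw [e]; group⟩, ⟨h, by rw [_root_.mul_assoc, ← e]; group⟩⟩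
  obtain ⟨hNo, -⟩ := CentMT21.centralizer_clopen_of_normalising (TorPts21.isMultTypeFT_of_isTorus hT.2.2.1) i c jN hC
    (fun X x h => ((hN.2.2 X (x ≫ jN)).1 ⟨x, rfl⟩ X (𝟙 X) h).1.imp fun h' e => by simpa using e) fN hfN
  haveI := hNo
  haveI : IsMonHom fN := BorelFix21.isMonHom_of_comp jN fN (by rw [hfN]; infer_instance)
  let e₀ := IsLocalRing.closedPoint k
  have h1 : (η[N]).left e₀ ∈ Set.range fN.left.base :=
    ⟨(η[C]).left e₀, by rw [← Scheme.Hom.comp_apply, ← Over.comp_left, IsMonHom.one_hom fN]⟩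
  obtain ⟨F, hF, hFc⟩ : ∃ F : Set (𝟙_ (Over (Spec (CommRingCat.of k))) ⟶ N), F.Finite ∧
      ∀ g : 𝟙_ (Over (Spec (CommRingCat.of k))) ⟶ N, ∃ g' ∈ F,
        ∃ h : 𝟙_ (Over (Spec (CommRingCat.of k))) ⟶ C, g = g' * (h ≫ fN) :=
    OpenOrbit19.exists_finite_cosets (σ := 𝟙 (Spec (CommRingCat.of k))) fN h1
  let Φ : (𝟙_ (Over (Spec (CommRingCat.of k))) ⟶ N) → (𝟙_ (Over (Spec (CommRingCat.of k))) ⟶ H) :=
    fun g => (g ≫ jN ≫ v)⁻¹
  refine surjective_of_finite_cosets fC {d | d ≫ jD ∈ Φ '' F}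
    ((hF.image Φ).preimage fun a _ b _ e => (cancel_mono jD).1 e) fun d => ?_
  -- a lift of the point conjugates the torus inside the preimage
  obtain ⟨p₀, hp₀⟩ := exists_pt_lift v (d ≫ jD)
  let i₂ : T ⟶ G := i ≫ (conjIso p₀).hom
  have hi₂ : Red.IsMaximalTorus i₂ := isMaximalTorus_conj hT p₀
  haveI := hi₂.1
  have hv₂ : i₂ ≫ v = i ≫ v := by
    simp only [i₂]
    rw [comp_conjIso, MonObj.mul_comp, MonObj.mul_comp, GrpObj.inv_comp, Category.assoc, hp₀]
    have h := (hD.2.2 T (toUnit T ≫ d ≫ jD)).1 ⟨toUnit T ≫ d, Category.assoc _ _ _⟩ T (𝟙 T) wT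
    rw [Category.id_comp, hwT] at h
    rw [h, _root_.mul_inv_cancel_right]
  obtain ⟨a₁, ha₁⟩ := PerfProd19.exists_lift_of_surjective r (Limits.pullback.lift wT i hwT : T ⟶ P)
  obtain ⟨a₂, ha₂⟩ := PerfProd19.exists_lift_of_surjective r (Limits.pullback.lift wT i₂ (by rw [hwT, hv₂]) : T ⟶ P)
  have ha₁' : a₁ ≫ r ≫ q = i := by rw [reassoc_of% ha₁]; exact Limits.pullback.lift_snd _ _ _
  have ha₂' : a₂ ≫ r ≫ q = i₂ := by rw [reassoc_of% ha₂]; exact Limits.pullback.lift_snd _ _ _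
  haveI : Mono (r ≫ q) := mono_comp _ _
  obtain ⟨m, φ, hφ⟩ := MTConj21.exists_conj_maxTorus_disc
    (FinBorel21.isMaxTorus_factor (r ≫ q) a₁ (by rw [ha₁']; exact TorPts21.isMaxTorus_of_isMaximalTorus hT))
    (FinBorel21.isMaxTorus_factor (r ≫ q) a₂ (by rw [ha₂']; exact TorPts21.isMaxTorus_of_isMaximalTorus hi₂))
  let g : 𝟙_ (Over (Spec (CommRingCat.of k))) ⟶ G := m ≫ r ≫ q
  have hg : (toUnit T ≫ g) * i * (toUnit T ≫ g)⁻¹ = (toUnit T ≫ p₀) * (φ.hom ≫ i) * (toUnit T ≫ p₀)⁻¹ := by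
    have h := congrArg (· ≫ (r ≫ q)) hφ
    simp only [MonObj.mul_comp, GrpObj.inv_comp, Category.assoc] at h
    rw [ha₁', ha₂'] at h
    rw [h, ← comp_conjIso, Category.assoc]
  -- the quotient normalises the torus
  obtain ⟨n, hn⟩ := (hN.2.2 _ (p₀⁻¹ * g)).2 fun X x h => by
    have hx : ∀ z : 𝟙_ (Over (Spec (CommRingCat.of k))) ⟶ G, x ≫ z = toUnit X ≫ z :=
      fun z => congrArg (· ≫ z) (toUnit_unique x (toUnit X))
    have key : ∀ b : X ⟶ T, (toUnit X ≫ g) * (b ≫ i) * (toUnit X ≫ g)⁻¹ =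
        (toUnit X ≫ p₀) * ((b ≫ φ.hom) ≫ i) * (toUnit X ≫ p₀)⁻¹ := fun b => by
      have h' := congrArg (b ≫ ·) hg
      simp only [MonObj.comp_mul, GrpObj.comp_inv] at h'
      rw [← Category.assoc b (toUnit T) g, ← Category.assoc b (toUnit T) p₀, comp_toUnit, ← Category.assoc b φ.hom] at h'
      exact h'
    simp only [MonObj.comp_mul, GrpObj.comp_inv, hx]
    refine ⟨⟨h ≫ φ.hom, ?_⟩, ⟨h ≫ φ.inv, ?_⟩⟩
    · calc _ = (toUnit X ≫ p₀)⁻¹ * ((toUnit X ≫ g) * (h ≫ i) * (toUnit X ≫ g)⁻¹) * (toUnit X ≫ p₀) := by group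
        _ = _ := by rw [key]; group
    · have h' := key (h ≫ φ.inv)
      simp only [Category.assoc, Iso.inv_hom_id_assoc] at h'
      calc _ = (toUnit X ≫ g)⁻¹ * ((toUnit X ≫ p₀) * (h ≫ i) * (toUnit X ≫ p₀)⁻¹) * (toUnit X ≫ g) := by group
        _ = _ := by rw [← h', Category.assoc]; group
  obtain ⟨c₀, hc₀, z, hz⟩ := hFc n
  -- the conjugating point lies over the image torus
  obtain ⟨a, ha⟩ := exists_pt_lift wT (m ≫ r ≫ p)
  obtain ⟨c₁, hc₁⟩ := (hC.2.2 T i).2 fun X x h => by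
    rw [← MonObj.mul_comp, ← MonObj.mul_comp, AttrBorel21.mul_comm_of_isTorus hT.2.2.1]
  have hgv : g ≫ v = (a ≫ c₁) ≫ c ≫ v := by
    simp only [g, p, q, Category.assoc] at ha ⊢
    rw [reassoc_of% hc₁, ← hwT, reassoc_of% ha]
    simp only [Limits.pullback.condition]
  have hp : p₀ = g * (z ≫ c)⁻¹ * (c₀ ≫ jN)⁻¹ := by
    have hz' := congrArg (· ≫ jN) hz
    simp only [MonObj.mul_comp, Category.assoc, hfN, hn] at hz'
    calc p₀ = g * (p₀⁻¹ * g)⁻¹ := by group
      _ = _ := by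
        refine (congrArg (g * ·⁻¹) hz').trans ?_
        group
  refine ⟨((a ≫ c₁) * z⁻¹)⁻¹ ≫ fC * d, ?_, (a ≫ c₁) * z⁻¹, ?_⟩
  · refine ⟨c₀, hc₀, ?_⟩
    have hd : d ≫ jD = (g ≫ v) * (z ≫ c ≫ v)⁻¹ * (c₀ ≫ jN ≫ v)⁻¹ := by
      rw [← hp₀, hp]
      simp only [MonObj.mul_comp, GrpObj.inv_comp, Category.assoc]
    simp only [Φ, MonObj.mul_comp, GrpObj.inv_comp, Category.assoc, hfC, hd, hgv]
    group
  · simp only [GrpObj.inv_comp]
    group

/-- The image of the centralizer of a maximal torus is the centralizer of the image. -/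
theorem image_centralizer [Smooth G.hom] [QuasiCompact G.hom] [Smooth H.hom] [QuasiCompact H.hom]
    [ConnectedSpace ↥H.left] (v : G ⟶ H) [IsMonHom v] [Surjective v.left] {i : T ⟶ G}
    (hT : Red.IsMaximalTorus i) {c : C ⟶ G} (hC : Red.IsCentralizerOf i c) {t' : T' ⟶ H}
    (hT' : Red.IsMaximalTorus t') (wT : T ⟶ T') [Flat wT.left] [Surjective wT.left] (hwT : wT ≫ t' = i ≫ v)
    (c' : C' ⟶ H) [IsMonHom c'] [Mono c'] (wC : C ⟶ C') [Flat wC.left] [Surjective wC.left]
    (hwC : wC ≫ c' = c ≫ v) : Red.IsCentralizerOf t' c' := by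
  haveI := hT.1
  haveI := hT.2.1
  haveI := hT'.1
  haveI := hT'.2.1
  haveI := hC.1
  haveI := hC.2.1
  haveI : IsSeparated G.hom := AbRigid.isSeparated_of_grpObj G
  haveI : IsSeparated H.hom := AbRigid.isSeparated_of_grpObj H
  haveI := (TorPts21.props_of_isTorus hT.2.2.1).1
  haveI := (TorPts21.props_of_isTorus hT'.2.2.1).1
  haveI : IsClosedImmersion c.left := CartanDim21.isClosedImmersion_of_isCentralizerOf hT.2.2.1 hC
  haveI : QuasiCompact C.hom := by rw [← Over.w c]; infer_instance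
  haveI : IsSeparated C'.hom := AbRigid.isSeparated_of_grpObj C'
  haveI : QuasiCompact wC.left := CentMT21.quasiCompact_left wC
  haveI : QuasiCompact wT.left := CentMT21.quasiCompact_left wT
  obtain ⟨D, _, jD, hD, hjc, hDs⟩ := TorusCentr19.exists_centralizer'
    (isMT_of_ft (TorPts21.isMultTypeFT_of_isTorus hT'.2.2.1)) inferInstance t'
  haveI := hDs
  haveI := hjc
  haveI := hD.1
  haveI := hD.2.1
  haveI : IsSeparated D.hom := AbRigid.isSeparated_of_grpObj D
  obtain ⟨f, hf⟩ := (hD.2.2 C' c').2 fun X x h => commute_images v hC t' wT hwT c' wC hwC x h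
  haveI : Mono f := mono_of_mono_fac hf
  have hCs : Smooth C.hom := smooth_of_isCentralizerOf hT.2.2.1 hC
  haveI := hCs
  obtain ⟨hfm, hfs⟩ := surjective_centralizers v hT hC hT' wT hwT hD (wC ≫ f) (by rw [Category.assoc, hf, hwC])
  haveI := hfm
  haveI := hfs
  haveI : Flat (wC ≫ f).left := CentMT21.flat_left_of_surjective (wC ≫ f)
  haveI : QuasiCompact (wC ≫ f).left := CentMT21.quasiCompact_left (wC ≫ f)
  haveI : Epi (wC ≫ f) := AlgGrpBasic19.epi_of_cover _
  haveI : Mono f.left := Over.mono_left_of_mono f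
  haveI : Flat f.left := by
    have h := ‹Flat (wC ≫ f).left›
    rw [Over.comp_left] at h
    exact H12.flat_of_comp_of_surjective wC.left f.left
  haveI : Surjective f.left := by
    haveI : Surjective (wC.left ≫ f.left) := by rw [← Over.comp_left]; exact hfs
    exact Surjective.of_comp wC.left f.left
  haveI : QuasiCompact f.left := by
    haveI : QuasiCompact (wC.left ≫ f.left) := by rw [← Over.comp_left]; exact ‹QuasiCompact (wC ≫ f).left›
    exact Groth.Agent.SchBasic.quasiCompact_of_comp_surjective wC.left f.left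
  haveI : IsIso f := AlgGrpBasic19.isIso_of_mono f
  refine ⟨inferInstance, inferInstance, fun X g => ?_⟩
  rw [← hD.2.2 X g]
  exact ⟨fun ⟨z, hz⟩ => ⟨z ≫ f, by rw [Category.assoc, hf, hz]⟩,
    fun ⟨z, hz⟩ => ⟨z ≫ inv f, by rw [← hf, Category.assoc, IsIso.inv_hom_id_assoc, hz]⟩⟩

/-- The image of the centralizer is the centralizer of any presentation of the image torus. -/
theorem image_centralizer' [Smooth G.hom] [QuasiCompact G.hom] [Smooth H.hom] [QuasiCompact H.hom]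
    [ConnectedSpace ↥H.left] (v : G ⟶ H) [IsMonHom v] [Surjective v.left] {i : T ⟶ G}
    (hT : Red.IsMaximalTorus i) {c : C ⟶ G} (hC : Red.IsCentralizerOf i c) (t' : T' ⟶ H) [Mono t']
    (wT : T ⟶ T') [Flat wT.left] [Surjective wT.left] (hwT : wT ≫ t' = i ≫ v)
    (c' : C' ⟶ H) [IsMonHom c'] [Mono c'] (wC : C ⟶ C') [Flat wC.left] [Surjective wC.left]
    (hwC : wC ≫ c' = c ≫ v) : Red.IsCentralizerOf t' c' := by
  haveI : IsSeparated H.hom := AbRigid.isSeparated_of_grpObj H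
  haveI : IsSeparated G.hom := AbRigid.isSeparated_of_grpObj G
  obtain ⟨T₁, _, i₁, v₁, hT₁, -, hv₁, hs₁, hf₁⟩ :=
    ImTor21.exists_image_maxTorus v (fun s => CentMT21.surjective_map_left v _) i hT
  haveI := hs₁
  haveI := hf₁
  haveI := hT₁.2.1
  haveI : Mono i₁.left := Over.mono_left_of_mono i₁
  haveI : Mono t'.left := Over.mono_left_of_mono t'
  haveI := (TorPts21.props_of_isTorus hT.2.2.1).1
  haveI := (TorPts21.props_of_isTorus hT₁.2.2.1).1
  haveI : IsSeparated T'.hom := AbRigid.isSeparated_of_grpObj T'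
  haveI : QuasiCompact v₁.left := CentMT21.quasiCompact_left v₁
  haveI : QuasiCompact wT.left := CentMT21.quasiCompact_left wT
  obtain ⟨l, hl⟩ := FppfDesc19.exists_lift_of_cover v₁ t' i₁ wT (by rw [hwT, hv₁])
  obtain ⟨l', hl'⟩ := FppfDesc19.exists_lift_of_cover wT i₁ t' v₁ (by rw [hwT, hv₁])
  exact isCentralizerOf_of_iso ⟨l, l', (cancel_mono i₁).1 (by rw [Category.assoc, hl', hl, Category.id_comp]),
    (cancel_mono t').1 (by rw [Category.assoc, hl, hl', Category.id_comp])⟩ hl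
    (image_centralizer v hT hC hT₁ v₁ hv₁ c' wC hwC)

/-- Every Cartan subgroup of the image is the image of a Cartan subgroup. -/
theorem exists_cartan_lift [Smooth G.hom] [QuasiCompact G.hom] [ConnectedSpace ↥G.left] [Smooth H.hom]
    [QuasiCompact H.hom] [ConnectedSpace ↥H.left] (v : G ⟶ H) [IsMonHom v] [Surjective v.left]
    (c' : C' ⟶ H) (hC' : SGA3x.IsCartanOver k c') :
    ∃ (C : Over (Spec (CommRingCat.of k))) (_ : GrpObj C) (c : C ⟶ G) (w : C ⟶ C'), SGA3x.IsCartanOver k c ∧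
      IsMonHom w ∧ Flat w.left ∧ Surjective w.left ∧ w ≫ c' = c ≫ v := by
  obtain ⟨hm', hmono', T₂, _, t₂, hT₂, hC₂⟩ := hC'
  haveI := hm'
  haveI := hmono'
  haveI := hT₂.1
  haveI := hT₂.2.1
  haveI : IsSeparated H.hom := AbRigid.isSeparated_of_grpObj H
  haveI : IsSeparated G.hom := AbRigid.isSeparated_of_grpObj G
  haveI : Mono η[G] := SplitMono.mono ⟨toUnit G, toUnit_unique _ _⟩
  obtain ⟨T₀, _, i₀, _, hT₀', -⟩ := AttrBorel21.exists_maxTorus_ge_gen Semiab15.isTorus_unit η[G]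
  have hT₀ := AttrBorel21.isMaximalTorus_of_isMaxTorus hT₀'
  obtain ⟨T₁, _, i₁, v₁, hT₁, -, hv₁, hs₁, hf₁⟩ :=
    ImTor21.exists_image_maxTorus v (fun s => CentMT21.surjective_map_left v _) i₀ hT₀
  haveI := hs₁
  haveI := hf₁
  obtain ⟨g, ψ, hψ⟩ := MTConj21.exists_conj_maxTorus_disc (TorPts21.isMaxTorus_of_isMaximalTorus hT₁)
    (TorPts21.isMaxTorus_of_isMaximalTorus hT₂)
  obtain ⟨p, hp⟩ := exists_pt_lift v g
  let i := i₀ ≫ (conjIso p).hom
  have hi : Red.IsMaximalTorus i := isMaximalTorus_conj hT₀ p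
  haveI := hi.1
  haveI : IsIso ψ.hom.left := inferInstanceAs (IsIso ((Over.forget _).map ψ.hom))
  haveI : Flat (v₁ ≫ ψ.hom).left := by rw [Over.comp_left]; infer_instance
  haveI : Surjective (v₁ ≫ ψ.hom).left := by rw [Over.comp_left]; infer_instance
  have hw : (v₁ ≫ ψ.hom) ≫ t₂ = i ≫ v := by
    rw [Category.assoc, ← hψ]
    simp only [i, comp_conjIso, MonObj.comp_mul, MonObj.mul_comp, GrpObj.comp_inv, GrpObj.inv_comp,
      Category.assoc, hv₁, hp, comp_toUnit_assoc]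
  haveI := (TorPts21.props_of_isTorus hi.2.2.1).1
  haveI := (TorPts21.props_of_isTorus hT₂.2.2.1).1
  haveI : QuasiCompact (v₁ ≫ ψ.hom).left := CentMT21.quasiCompact_left _
  obtain ⟨C, _, c, hC, hcc, hCs⟩ := TorusCentr19.exists_centralizer'
    (isMT_of_ft (TorPts21.isMultTypeFT_of_isTorus hi.2.2.1)) inferInstance i
  haveI := hcc
  haveI := hCs
  haveI := hC.1
  haveI := hC.2.1
  haveI : IsClosedImmersion c'.left := CartanDim21.isClosedImmersion_of_isCentralizerOf hT₂.2.2.1 hC₂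
  haveI : Smooth C'.hom := smooth_of_isCentralizerOf hT₂.2.2.1 hC₂
  haveI : Flat (𝟙 C : C ⟶ C).left := inferInstanceAs (Flat (𝟙 C.left))
  haveI : Surjective (𝟙 C : C ⟶ C).left := inferInstanceAs (Surjective (𝟙 C.left))
  haveI : QuasiCompact (𝟙 C : C ⟶ C).left := inferInstanceAs (QuasiCompact (𝟙 C.left))
  obtain ⟨w, hw'⟩ := (hC₂.2.2 C (c ≫ v)).2 fun X x h =>
    commute_images v hC t₂ (v₁ ≫ ψ.hom) hw (c ≫ v) (𝟙 C) (Category.id_comp _) x h
  obtain ⟨hwm, hws⟩ := surjective_centralizers v hi hC hT₂ (v₁ ≫ ψ.hom) hw hC₂ w hw'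
  haveI := hwm
  haveI := hws
  exact ⟨C, inferInstance, c, w, ⟨hC.1, hC.2.1, T₀, inferInstance, i, hi, hC⟩, hwm,
    CentMT21.flat_left_of_surjective w, hws, hw'⟩

end Groth.Agent.CartanImg21
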