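import Groth.Agent.Lib.SolvSpec15.Solvable
import Groth.Agent.Lib.AbRigid.Connected
import Groth.Agent.Lib.AbRigid.GrpTop
import Mathlib.AlgebraicGeometry.AlgClosed.Basic

/-!
# Surjectivity of homomorphisms by rational points
-/

set_option autoImplicit false
set_option linter.style.haveILetI false
set_option linter.unusedSectionVars false
set_option backward.isDefEq.respectTransparency.types false

universe u

open CategoryTheory Limits MonoidalCategory CartesianMonoidalCategory MonObj AlgebraicGeometry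

noncomputable section

namespace Groth.Agent.CartanImg21

variable {k : Type u} [Field k] [IsAlgClosed k]

local notation "e₀" => IsLocalRing.closedPoint k

theorem exists_pt_of_closed {X : Over (Spec (CommRingCat.of k))} [LocallyOfFiniteType X.hom] (z : X.left)
    (hz : z ∈ closedPoints X.left) : ∃ x : 𝟙_ (Over (Spec (CommRingCat.of k))) ⟶ X, x.left e₀ = z :=
  ⟨Over.homMk (pointOfClosedPoint X.hom z hz) (pointOfClosedPoint_comp _ _ _), pointOfClosedPoint_apply _ _ _ _⟩

/-- Rational points lift along surjective maps. -/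
theorem exists_pt_lift {X Y : Over (Spec (CommRingCat.of k))} [LocallyOfFiniteType X.hom]
    [LocallyOfFiniteType Y.hom] (q : X ⟶ Y) [Surjective q.left]
    (y : 𝟙_ (Over (Spec (CommRingCat.of k))) ⟶ Y) : ∃ x : 𝟙_ (Over (Spec (CommRingCat.of k))) ⟶ X, x ≫ q = y := by
  haveI : JacobsonSpace X.left := LocallyOfFiniteType.jacobsonSpace X.hom
  have hcl : IsClosed ({y.left e₀} : Set Y.left) := (pointEquivClosedPoint Y.hom ⟨y.left, Over.w y⟩).2
  obtain ⟨v, hv⟩ := q.left.surjective (y.left e₀)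
  obtain ⟨z, hz, hzc⟩ := nonempty_inter_closedPoints (Z := q.left.base ⁻¹' {y.left e₀}) ⟨v, hv⟩
    (hcl.preimage q.left.continuous).isLocallyClosed
  obtain ⟨x, hx⟩ := exists_pt_of_closed z hzc
  refine ⟨x, Over.OverMorphism.ext (ext_of_apply_closedPoint_eq Y.hom (Over.w (x ≫ q)) (Over.w y) ?_)⟩
  show q.left (x.left e₀) = y.left e₀
  rw [hx]
  exact hz

/-- A homomorphism to a connected group with finitely many cosets on rational points is surjective. -/
theorem surjective_of_finite_cosets {A D : Over (Spec (CommRingCat.of k))} [GrpObj A] [GrpObj D]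
    [LocallyOfFiniteType A.hom] [LocallyOfFiniteType D.hom] [ConnectedSpace D.left] (f : A ⟶ D) [IsMonHom f]
    [QuasiCompact f.left] (F : Set (𝟙_ (Over (Spec (CommRingCat.of k))) ⟶ D)) (hF : F.Finite)
    (h : ∀ d : 𝟙_ (Over (Spec (CommRingCat.of k))) ⟶ D, ∃ c ∈ F,
      ∃ a : 𝟙_ (Over (Spec (CommRingCat.of k))) ⟶ A, d = (a ≫ f) * c) : Surjective f.left := by
  classical
  haveI : JacobsonSpace D.left := LocallyOfFiniteType.jacobsonSpace D.hom
  haveI := AbRigid.irreducibleSpace_of_isAlgClosed D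
  let ρ : (𝟙_ (Over (Spec (CommRingCat.of k))) ⟶ D) → (D ⟶ D) := fun c => 𝟙 D * (toUnit D ≫ c)⁻¹
  let R : (𝟙_ (Over (Spec (CommRingCat.of k))) ⟶ D) → Set D.left := fun c =>
    (ρ c).left.base ⁻¹' Set.range f.left.base
  have hR : ∀ c, IsClosed (R c) := fun c => (SolvSpec15.isClosed_range f).preimage (ρ c).left.continuous
  have hcov : (Set.univ : Set D.left) ⊆ ⋃ c ∈ F, R c := by
    intro z _
    by_contra hz
    obtain ⟨w, hw, hwc⟩ := nonempty_inter_closedPoints (Z := (⋃ c ∈ F, R c)ᶜ) ⟨z, hz⟩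
      (hF.isClosed_biUnion fun c _ => hR c).isOpen_compl.isLocallyClosed
    obtain ⟨d, hd⟩ := exists_pt_of_closed w hwc
    obtain ⟨c, hc, a, ha⟩ := h d
    refine hw (Set.mem_biUnion hc ?_)
    show (ρ c).left w ∈ Set.range f.left.base
    refine ⟨a.left e₀, ?_⟩
    have e : d ≫ ρ c = a ≫ f := by
      simp only [ρ, MonObj.comp_mul, GrpObj.comp_inv, Category.comp_id]
      rw [← Category.assoc, toUnit_unique (d ≫ toUnit D) (𝟙 _), Category.id_comp, ha, _root_.mul_inv_cancel_right]
    rw [← hd, ← Scheme.Hom.comp_apply, ← Scheme.Hom.comp_apply, ← Over.comp_left, ← Over.comp_left, e]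
  obtain ⟨_, ht, htop⟩ := isIrreducible_iff_sUnion_isClosed.1 (IrreducibleSpace.isIrreducible_univ (X := ↥D.left))
    (hF.toFinset.image R) (by simpa using fun c _ => hR c) (by simpa [Set.sUnion_image] using hcov)
  obtain ⟨c, -, rfl⟩ := Finset.mem_image.1 ht
  refine ⟨fun y => ?_⟩
  let σ : D ⟶ D := 𝟙 D * (toUnit D ≫ c)
  have hσ : σ ≫ ρ c = 𝟙 D := by
    simp only [σ, ρ, MonObj.comp_mul, GrpObj.comp_inv, Category.comp_id]
    rw [← Category.assoc, toUnit_unique ((𝟙 D * (toUnit D ≫ c)) ≫ toUnit D) (toUnit D), _root_.mul_inv_cancel_right]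
  have hmem : σ.left y ∈ R c := htop trivial
  change (ρ c).left (σ.left y) ∈ Set.range f.left.base at hmem
  rwa [← Scheme.Hom.comp_apply, ← Over.comp_left, hσ] at hmem

end Groth.Agent.CartanImg21
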